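import Cfsg.Agent.H75.ChevTwoGen.FieldTwo
import Cfsg.Prelude.Def_LieChev

/-!
# Certificates for the two-generation of the Chevalley groups
-/

set_option autoImplicit false
set_option maxRecDepth 100000

namespace Cfsg.Agent.H75.ChevTwoGen

open Cfsg.Lie

theorem certB2 : chkCert chevB2 [0, 1] 1 2 0
    [3, 7, 4] 1
    [5, 6, 2]
    [(1, 7, 3), (2, 7, 4)] = true := by
  decide +kernel

theorem certD4 : chkCert chevD4 [0, 1, 2, 3] 0 9 10
    [21, 15, 13, 2, 8] 1
    [18, 14, 22, 5, 9]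
    [(1, 21, 11), (5, 21, 16), (9, 10, 7), (9, 15, 12), (9, 16, 13), (14, 7, 10)] = true := by
  decide +kernel

theorem certF4 : chkCert chevF4 [0, 1, 2, 3] 0 3 0
    [15, 21, 41, 45, 46, 47, 32, 26, 6, 2, 1] 7
    [8, 18, 34, 37, 44, 40, 39, 29, 13, 10, 3]
    [(3, 40, 14), (3, 41, 0), (3, 47, 6), (7, 39, 20), (7, 44, 33), (7, 45, 15), (8, 29, 12), (8, 40, 27), (10, 34, 19), (13, 18, 9), (13, 37, 28), (13, 45, 32), (18, 32, 23), (29, 15, 24), (34, 6, 22), (39, 0, 25)] = true := by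
  decide +kernel

theorem certE6 : chkCert chevE6 [0, 1, 2, 3, 4, 5] 0 18 0
    [1, 16, 30, 61, 67, 71, 70, 55, 41, 10, 4] 5
    [26, 57, 50, 64, 69, 54, 40, 38, 9, 3, 18]
    [(3, 69, 37), (5, 69, 42), (9, 37, 10), (9, 57, 23), (9, 64, 39), (18, 39, 20), (18, 54, 36), (18, 64, 56), (26, 36, 27), (26, 38, 28), (26, 42, 30), (38, 30, 32), (40, 23, 25), (40, 27, 29), (40, 30, 35), (50, 10, 15), (50, 20, 34), (50, 28, 46)] = true := by
  decide +kernel

theorem cert2E6 : chkCert₁ chevE6 [0, 1, 2, 3, 4, 5] 5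
    [26, 57, 50, 64, 69, 54, 40, 38, 9, 3, 18]
    [(3, 69, 37), (5, 69, 42), (9, 37, 10), (9, 57, 23), (9, 64, 39), (18, 39, 20), (18, 54, 36), (18, 64, 56), (26, 36, 27), (26, 38, 28), (26, 42, 30), (38, 30, 32), (40, 23, 25), (40, 27, 29), (40, 30, 35), (50, 10, 15), (50, 20, 34), (50, 28, 46)] = true := by
  decide +kernel

theorem certE7 : chkCert chevE7 [0, 1, 2, 3, 4, 5, 6] 0 37 2
    [7, 33, 53, 99, 109, 119, 125, 124, 123, 118, 92, 72, 26, 16, 6, 0, 1] 18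
    [49, 43, 78, 95, 84, 104, 113, 88, 107, 76, 82, 47, 30, 41, 21, 12, 37]
    [(12, 107, 52), (18, 113, 73), (21, 88, 32), (21, 95, 44), (30, 104, 81), (37, 76, 46), (37, 81, 51), (37, 104, 93), (41, 73, 45), (41, 78, 50), (43, 81, 62), (47, 49, 40), (47, 51, 42), (47, 84, 75), (49, 45, 35), (49, 75, 61), (76, 50, 64), (78, 46, 56), (82, 44, 63), (84, 42, 66), (88, 35, 59), (88, 40, 69)] = true := by
  decide +kernel

theorem cert2E7 : chkCert₁ chevE7 [0, 1, 2, 3, 4, 5, 6] 18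
    [49, 43, 78, 95, 84, 104, 113, 88, 107, 76, 82, 47, 30, 41, 21, 12, 37]
    [(12, 107, 52), (18, 113, 73), (21, 88, 32), (21, 95, 44), (30, 104, 81), (37, 76, 46), (37, 81, 51), (37, 104, 93), (41, 73, 45), (41, 78, 50), (43, 81, 62), (47, 49, 40), (47, 51, 42), (47, 84, 75), (49, 45, 35), (49, 75, 61), (76, 50, 64), (78, 46, 56), (82, 44, 63), (84, 42, 66), (88, 35, 59), (88, 40, 69)] = true := by
  decide +kernel

theorem certE8 : chkCert chevE8 [0, 1, 2, 3, 4, 5, 6, 7] 0 20 0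
    [15, 21, 36, 78, 105, 169, 184, 204, 226, 234, 235, 236, 237, 238, 239, 224, 218, 203, 161, 134, 70, 55, 35, 13, 5, 4, 3, 2, 1] 6
    [7, 14, 8, 16, 22, 37, 79, 106, 110, 170, 185, 205, 227, 219, 233, 232, 225, 231, 223, 217, 202, 160, 133, 129, 69, 54, 34, 12, 20]
    [(6, 225, 77), (6, 231, 98), (7, 231, 104), (8, 217, 74), (8, 232, 135), (8, 233, 141), (12, 233, 145), (14, 233, 162), (16, 225, 142), (20, 205, 101), (22, 142, 36), (22, 231, 165), (34, 145, 55), (34, 219, 138), (37, 165, 78), (37, 223, 149), (54, 138, 70), (54, 227, 180), (69, 101, 51), (69, 180, 134), (79, 74, 38), (79, 149, 105), (106, 134, 120), (110, 134, 130), (129, 105, 109), (133, 105, 119), (160, 78, 118), (170, 70, 126), (185, 51, 113), (185, 55, 123), (202, 36, 116), (202, 38, 121)] = true := by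
  decide +kernel

theorem cert2E8 : chkCert₁ chevE8 [0, 1, 2, 3, 4, 5, 6, 7] 6
    [7, 14, 8, 16, 22, 37, 79, 106, 110, 170, 185, 205, 227, 219, 233, 232, 225, 231, 223, 217, 202, 160, 133, 129, 69, 54, 34, 12, 20]
    [(6, 225, 77), (6, 231, 98), (7, 231, 104), (8, 217, 74), (8, 232, 135), (8, 233, 141), (12, 233, 145), (14, 233, 162), (16, 225, 142), (20, 205, 101), (22, 142, 36), (22, 231, 165), (34, 145, 55), (34, 219, 138), (37, 165, 78), (37, 223, 149), (54, 138, 70), (54, 227, 180), (69, 101, 51), (69, 180, 134), (79, 74, 38), (79, 149, 105), (106, 134, 120), (110, 134, 130), (129, 105, 109), (133, 105, 119), (160, 78, 118), (170, 70, 126), (185, 51, 113), (185, 55, 123), (202, 36, 116), (202, 38, 121)] = true := by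
  decide +kernel

theorem cert2D4 : chkCert₂ chevD4 [0, 1, 2, 3] 1 7 5 2
    [18, 14, 22, 5, 9]
    [8, 10, 21, 15, 13]
    [(1, 21, 11), (2, 22, 12)] = true := by
  decide +kernel

theorem cert2F4 : chkCert₂ chevF4 [0, 1, 2, 3] 0 10 21 8
    [15, 21, 41, 45, 46, 47, 32, 26, 6, 2, 1]
    [18, 34, 37, 44, 40, 39, 29, 13, 10, 3, 7]
    [(0, 46, 23), (1, 45, 22), (1, 47, 24), (2, 46, 25), (3, 40, 14), (7, 39, 20), (7, 44, 33), (8, 40, 27)] = true := by
  decide +kernel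

end Cfsg.Agent.H75.ChevTwoGen
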